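import Mathlib
import Groth.Prelude.Def_DCoh3
import Groth.Prelude.Def_DRing2
import Groth.Agent.Lib.Helper5.Perf.PCApprox
import Groth.Agent.Lib.Helper5.Perf.PerfTri
import Groth.Agent.Lib.Helper5.Perf.ProjLocFree
import Groth.Agent.Lib.Helper5.Perf.ExactHom
import Groth.Agent.Lib.Helper5.QC.TildeExact
import Groth.Agent.Lib.Helper5.QC.LTenQC

/-!
# Pseudo-coherence and perfectness of `M^~` : the easy directions (helper5)
-/

set_option autoImplicit false
universe u
open CategoryTheory CategoryTheory.Limits AlgebraicGeometry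

attribute [local instance] HasDerivedCategory.standard

namespace Groth.Agent.Lib.Helper5.TildePC

open Groth.Agent.Lib.Helper5.PCApprox Groth.Agent.Lib.Helper5.PerfTri
  Groth.Agent.Lib.Helper5.LocNull Groth.Agent.Lib.Helper5.QC Groth.Agent.Lib.Helper5.ExactHom

variable (R : CommRingCat.{u}) [PreservesFiniteLimits (tilde.functor R)]

/-- `(Q K)^~ ≅ Q (K^~)` -/
noncomputable def tildeQIso (K : CochainComplex (ModuleCat.{u} R) ℤ) :
    (DCoh.tildeD R).obj (DerivedCategory.Q.obj K) ≅ DerivedCategory.Q.obj ((tCx R).obj K) :=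
  (tilde.functor R).mapDerivedCategoryFactors.app K

/-- the tilde of a bounded complex of finite projective modules is strictly perfect -/
theorem isStrictlyPerfect_tCx (E : CochainComplex (ModuleCat.{u} R) ℤ) (a b : ℤ)
    (hab : DRing.VanishesOutside E a b) (hE : DRing.TermwiseFiniteProjective E) :
    DCoh.IsStrictlyPerfect ((tCx R).obj E) := by
  refine ⟨⟨a, b, fun i hi => (tilde.functor R).map_isZero (hab i hi)⟩, fun i => ?_⟩
  haveI := (hE i).1
  haveI := (hE i).2
  exact Groth.Agent.Lib.Helper5.ProjLocFree.isFinLocFree_tilde_of_projective R (E.X i)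

/-- `tildeD` preserves approximations -/
theorem isApprox_tildeD {m : ℤ} {A B : DerivedCategory (ModuleCat.{u} R)} (α : A ⟶ B)
    (h1 : ∀ i : ℤ, m < i → IsIso ((DerivedCategory.homologyFunctor (ModuleCat.{u} R) i).map α))
    (h2 : Epi ((DerivedCategory.homologyFunctor (ModuleCat.{u} R) m).map α)) :
    IsApprox m ((DCoh.tildeD R).map α) :=
  ⟨fun i hi => isIso_homology_map α i (h1 i hi), epi_homology_map α m h2⟩

/-- `tildeD` reflects approximations -/
theorem isApprox_of_tildeD {m : ℤ} {A B : DerivedCategory (ModuleCat.{u} R)} (α : A ⟶ B)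
    (h : IsApprox m ((DCoh.tildeD R).map α)) :
    (∀ i : ℤ, m < i → IsIso ((DerivedCategory.homologyFunctor (ModuleCat.{u} R) i).map α)) ∧
      Epi ((DerivedCategory.homologyFunctor (ModuleCat.{u} R) m).map α) := by
  constructor
  · intro i hi
    have h1 := h.1 i hi
    have h2 : IsIso ((DerivedCategory.homologyFunctor (ModuleCat.{u} R) i ⋙ tilde.functor R).map α) :=
      (NatIso.isIso_map_iff (derivedHomologyIso (tilde.functor R) i) α).1 h1
    dsimp only [Functor.comp_map] at h2
    exact isIso_of_reflects_iso _ (tilde.functor R)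
  · have h1 := h.2
    have h2 : Epi ((DerivedCategory.homologyFunctor (ModuleCat.{u} R) m ⋙ tilde.functor R).map α) :=
      (epi_map_iff_of_natIso (derivedHomologyIso (tilde.functor R) m) α).1 h1
    dsimp only [Functor.comp_map] at h2
    exact (tilde.functor R).epi_of_epi_map h2

/-- an `m`-pseudo-coherent object of `D(R)` gives an approximation of its tilde -/
theorem approx_tildeD_of_isPseudoCoherent (M : DerivedCategory (ModuleCat.{u} R)) (m : ℤ)
    (hM : DRing.IsPseudoCoherent R m M) : Approx m ((DCoh.tildeD R).obj M) := by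
  obtain ⟨E, a, b, α, hab, hE, h1, h2⟩ := hM
  refine ⟨(tCx R).obj E, (tildeQIso R E).inv ≫ (DCoh.tildeD R).map α,
    isStrictlyPerfect_tCx R E a b hab (fun i => ⟨(hE i).1, ?_⟩),
    (isApprox_tildeD R α h1 h2).iso_comp (tildeQIso R E).symm⟩
  haveI := (hE i).2
  infer_instance

/-- **`M` `m`-pseudo-coherent ⟹ `M^~` `m`-pseudo-coherent** -/
theorem isPseudoCoherentD_tildeD (M : DerivedCategory (ModuleCat.{u} R)) (m : ℤ)
    (hM : DRing.IsPseudoCoherent R m M) : DCoh.IsPseudoCoherentD m ((DCoh.tildeD R).obj M) := by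
  apply isPC_of_approx
  intro x
  exact ⟨_, (⊤ : (Spec (CommRingCat.of R)).Opens).ι, inferInstance, by simp,
    (approx_tildeD_of_isPseudoCoherent R M m hM).restrict _⟩

/-- **`M` perfect ⟹ `M^~` perfect** -/
theorem isPerfect_tildeD (M : DerivedCategory (ModuleCat.{u} R)) (hM : DRing.IsPerfect R M) :
    DCoh.IsPerfect ((DCoh.tildeD R).obj M) := by
  obtain ⟨E, a, b, hab, hE, ⟨e⟩⟩ := hM
  apply isPerfect_of_LPD
  intro x
  refine ⟨_, (⊤ : (Spec (CommRingCat.of R)).Opens).ι, inferInstance, by simp,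
    (RCx (⊤ : (Spec (CommRingCat.of R)).Opens).ι).obj ((tCx R).obj E),
    isStrictlyPerfect_restrict _ (isStrictlyPerfect_tCx R E a b hab hE), ⟨?_⟩⟩
  exact (DCoh.restrictD _).mapIso ((DCoh.tildeD R).mapIso e.symm ≪≫ tildeQIso R E) ≪≫
    (Scheme.Modules.restrictFunctor _).mapDerivedCategoryFactors.app _

end Groth.Agent.Lib.Helper5.TildePC
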