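import Mathlib
import Groth.Prelude.Def_DCoh3
import Groth.Prelude.Def_DRing2
import Groth.Prelude.Def_DDual2
import Groth.Agent.Lib.Helper1.TildeBC
import Groth.Agent.Lib.Helper5.TildePC.Basic

/-!
# Restriction of `M^~` to a principal open (helper5)
-/

set_option autoImplicit false
universe u
open CategoryTheory CategoryTheory.Limits AlgebraicGeometry

attribute [local instance] HasDerivedCategory.standard

namespace Groth.Agent.Lib.Helper5.TildePC

open Groth.Agent.Lib.Helper5.PCApprox Groth.Agent.Lib.Helper5.PerfTri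
  Groth.Agent.Lib.Helper5.LocNull Groth.Agent.Lib.Helper5.QC Groth.Agent.Lib.Helper5.ExactHom

variable {R S : CommRingCat.{u}} (φ : R ⟶ S) [IsOpenImmersion (Spec.map φ)]

/-- restriction of `M^~` along an open immersion `Spec S ⟶ Spec R` is `(S ⊗ M)^~`, naturally -/
noncomputable def tildeRestrictNatIso :
    tilde.functor R ⋙ Scheme.Modules.restrictFunctor (Spec.map φ) ≅
      ModuleCat.extendScalars.{u, u, u} φ.hom ⋙ tilde.functor S :=
  Functor.isoWhiskerLeft _ (Scheme.Modules.restrictFunctorIsoPullback (Spec.map φ)) ≪≫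
    Groth.Agent.Helper1.TildeBC.pullbackTildeIso φ

/-- termwise extension of scalars -/
noncomputable abbrev extCx : CochainComplex (ModuleCat.{u} R) ℤ ⥤ CochainComplex (ModuleCat.{u} S) ℤ :=
  (ModuleCat.extendScalars.{u, u, u} φ.hom).mapHomologicalComplex (ComplexShape.up ℤ)

/-- the complex-level version -/
noncomputable def resTildeCxIso (K : CochainComplex (ModuleCat.{u} R) ℤ) :
    (RCx (Spec.map φ)).obj ((tCx R).obj K) ≅ (tCx S).obj ((extCx φ).obj K) :=
  HomologicalComplex.Hom.isoOfComponents (fun n => (tildeRestrictNatIso φ).app (K.X n))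
    (fun i j _ => ((tildeRestrictNatIso φ).hom.naturality (K.d i j)).symm)

variable [PreservesFiniteLimits (tilde.functor R)] [PreservesFiniteLimits (tilde.functor S)]

/-- the derived version -/
noncomputable def resTildeDIso (K : CochainComplex (ModuleCat.{u} R) ℤ) :
    (DCoh.restrictD (Spec.map φ)).obj ((DCoh.tildeD R).obj (DerivedCategory.Q.obj K)) ≅
      (DCoh.tildeD S).obj (DerivedCategory.Q.obj ((extCx φ).obj K)) :=
  (DCoh.restrictD (Spec.map φ)).mapIso (tildeQIso R K) ≪≫
    (Scheme.Modules.restrictFunctor (Spec.map φ)).mapDerivedCategoryFactors.app _ ≪≫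
    DerivedCategory.Q.mapIso (resTildeCxIso φ K) ≪≫ (tildeQIso S _).symm

end Groth.Agent.Lib.Helper5.TildePC
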