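import Mathlib
import Groth.Prelude.Def_DCoh3
import Groth.Prelude.Def_DRing2
import Groth.Agent.Lib.Lead.FLF2
import Groth.Agent.Lib.Helper5.QC.SpecMain
import Groth.Agent.Lib.Helper5.Perf.Shrink
import Groth.Agent.Lib.Helper5.Perf.PerfLocFree
import Groth.Agent.Lib.Helper5.TildePC.ResTilde

/-!
# From approximations of `M^~` to approximations of `M` (helper5)
-/

set_option autoImplicit false
universe u
open CategoryTheory CategoryTheory.Limits AlgebraicGeometry

attribute [local instance] HasDerivedCategory.standard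

namespace Groth.Agent.Lib.Helper5.TildePC

open Groth.Agent.Lib.Helper5.PCApprox Groth.Agent.Lib.Helper5.PerfTri
  Groth.Agent.Lib.Helper5.LocNull Groth.Agent.Lib.Helper5.QC Groth.Agent.Lib.Helper5.ExactHom
  Groth.Agent.Lib.Helper5.Shrink

section Affine

variable (S : CommRingCat.{u})

/-- the complex of global sections -/
noncomputable abbrev ΓCx : CochainComplex (Spec (CommRingCat.of S)).Modules ℤ ⥤
    CochainComplex (ModuleCat.{u} S) ℤ :=
  (moduleSpecΓFunctor (R := S)).mapHomologicalComplex (ComplexShape.up ℤ)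

/-- a complex with quasi-coherent terms is the tilde of its complex of global sections -/
noncomputable def tΓIso (E : CochainComplex (Spec (CommRingCat.of S)).Modules ℤ)
    (hE : ∀ i : ℤ, (E.X i).IsQuasicoherent) : (tCx S).obj ((ΓCx S).obj E) ≅ E :=
  HomologicalComplex.Hom.isoOfComponents
    (fun n => @asIso _ _ _ _ ((E.X n).fromTildeΓ) (by
      haveI := hE n
      exact Scheme.Modules.isIso_fromTildeΓ_of_isQuasicoherent (R := S) (E.X n)))
    (fun i j _ => (Scheme.Modules.fromTildeΓNatTrans.naturality (E.d i j)).symm)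

/-- the global sections of a free module of finite rank are finite free -/
theorem finite_free_Γ_of_iso_free (N : (Spec (CommRingCat.of S)).Modules) (n : ℕ)
    (e : N ≅ FlatMod.freeMod (Spec (CommRingCat.of S)) n) :
    Module.Finite S ((moduleSpecΓFunctor (R := S)).obj N) ∧
      Module.Free S ((moduleSpecΓFunctor (R := S)).obj N) := by
  let F : ModuleCat.{u} S := ModuleCat.of S (ULift.{u} (Fin n) →₀ S)
  let e' : (moduleSpecΓFunctor (R := S)).obj N ≅ F :=
    (moduleSpecΓFunctor (R := S)).mapIso (e ≪≫ (Groth.Agent.Lead.FLF.tildeFreeIso S n).symm) ≪≫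
      (tilde.toTildeΓNatIso.app F).symm
  exact ⟨Module.Finite.equiv e'.symm.toLinearEquiv, Module.Free.of_equiv e'.symm.toLinearEquiv⟩

/-- the global sections of a finite locally free module are finite projective -/
theorem finite_projective_Γ_of_isFinLocFree (N : (Spec (CommRingCat.of S)).Modules)
    (hN : FlatMod.IsFinLocFree N) :
    Module.Finite S ((moduleSpecΓFunctor (R := S)).obj N) ∧
      Module.Projective S ((moduleSpecΓFunctor (R := S)).obj N) := by
  haveI : N.IsQuasicoherent := Groth.Agent.Lead.FLF.isQuasicoherent_of_isFinLocFree N hN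
  rw [← Groth.Agent.Lead.FLF.tilde_isFinLocFree_iff]
  exact Groth.Agent.Lead.FLF.isFinLocFree_of_iso (asIso N.fromTildeΓ).symm hN

end Affine

/-- approximation by a bounded complex of free modules -/
def ApproxFree {U : Scheme.{u}} (m : ℤ) (K : DCoh.D U) : Prop :=
  ∃ (E : CochainComplex U.Modules ℤ) (α : DerivedCategory.Q.obj E ⟶ K),
    DCoh.IsStrictlyPerfect E ∧ (∀ i : ℤ, ∃ n : ℕ, Nonempty (E.X i ≅ FlatMod.freeMod U n)) ∧
      IsApprox m α

theorem ApproxFree.of_iso {U : Scheme.{u}} {m : ℤ} {K K' : DCoh.D U} (h : ApproxFree m K)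
    (e : K ≅ K') : ApproxFree m K' := by
  obtain ⟨E, α, hE, hfree, hα⟩ := h
  exact ⟨E, α ≫ e.hom, hE, hfree, hα.comp_iso e⟩

theorem ApproxFree.restrict {U : Scheme.{u}} {m : ℤ} {K : DCoh.D U} (h : ApproxFree m K)
    {U' : Scheme.{u}} (k : U' ⟶ U) [IsOpenImmersion k] :
    ApproxFree m ((DCoh.restrictD k).obj K) := by
  obtain ⟨E, α, hE, hfree, hα⟩ := h
  refine ⟨(RCx k).obj E,
    ((Scheme.Modules.restrictFunctor k).mapDerivedCategoryFactors.app E).inv ≫
      (DCoh.restrictD k).map α, isStrictlyPerfect_restrict k hE, fun i => ?_,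
    (hα.restrict k).iso_comp ((Scheme.Modules.restrictFunctor k).mapDerivedCategoryFactors.app E).symm⟩
  obtain ⟨n, ⟨e⟩⟩ := hfree i
  exact ⟨n, ⟨(Scheme.Modules.restrictFunctor k).mapIso e ≪≫ restrictFreeIso k n⟩⟩

/-- finitely many finite locally free modules are simultaneously free near a point -/
theorem exists_free_nhd_finset' {U : Scheme.{u}} {ι : Type*} (s : Finset ι)
    (N : ι → U.Modules) (hN : ∀ i, FlatMod.IsFinLocFree (N i)) (x : U) :
    ∃ W : U.Opens, x ∈ W ∧ ∀ i ∈ s, ∃ n : ℕ,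
      Nonempty ((N i).restrict W.ι ≅ FlatMod.freeMod (↑W) n) := by
  classical
  induction s using Finset.induction_on with
  | empty => exact ⟨⊤, trivial, fun i hi => absurd hi (Finset.notMem_empty i)⟩
  | insert a s ha ih =>
    obtain ⟨W, hxW, hW⟩ := ih
    obtain ⟨W', n, hxW', ⟨e⟩⟩ := hN a x
    refine ⟨W ⊓ W', ⟨hxW, hxW'⟩, fun i hi => ?_⟩
    rcases Finset.mem_insert.1 hi with rfl | hi
    · exact ⟨n, ⟨freeOfFactor W'.ι (W ⊓ W').ι (U.homOfLE inf_le_right) (by simp) (N i) n e⟩⟩
    · obtain ⟨n', ⟨e'⟩⟩ := hW i hi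
      exact ⟨n', ⟨freeOfFactor W.ι (W ⊓ W').ι (U.homOfLE inf_le_left) (by simp) (N i) n' e'⟩⟩

/-- an approximation can be made termwise free near a point -/
theorem exists_approxFree_nhd {U : Scheme.{u}} {m : ℤ} {K : DCoh.D U} (h : Approx m K) (x : U) :
    ∃ W : U.Opens, x ∈ W ∧ ApproxFree m ((DCoh.restrictD W.ι).obj K) := by
  obtain ⟨E, α, hE, hα⟩ := h
  obtain ⟨⟨a, b, hab⟩, hfl⟩ := hE
  obtain ⟨W, hxW, hW⟩ := exists_free_nhd_finset' (Finset.Icc a b) (fun i : ℤ => E.X i) hfl x
  refine ⟨W, hxW, (RCx W.ι).obj E,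
    ((Scheme.Modules.restrictFunctor W.ι).mapDerivedCategoryFactors.app E).inv ≫
      (DCoh.restrictD W.ι).map α, isStrictlyPerfect_restrict W.ι ⟨⟨a, b, hab⟩, hfl⟩, fun i => ?_,
    (hα.restrict W.ι).iso_comp
      ((Scheme.Modules.restrictFunctor W.ι).mapDerivedCategoryFactors.app E).symm⟩
  by_cases hi : i ∈ Finset.Icc a b
  · exact hW i hi
  · have hz : IsZero (E.X i) := hab i (by
      rw [Finset.mem_Icc] at hi
      omega)
    refine ⟨0, ⟨IsZero.iso (Functor.map_isZero (Scheme.Modules.restrictFunctor W.ι) hz) ?_⟩⟩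
    exact Groth.Agent.Lib.Helper5.Shrink.isZero_freeMod_zero _

section Affine2

variable (S : CommRingCat.{u}) [PreservesFiniteLimits (tilde.functor S)]

/-- **a free approximation of `N^~` gives an approximation of `N`** -/
theorem isPseudoCoherent_of_approxFree (N : DerivedCategory (ModuleCat.{u} S)) (m : ℤ)
    (h : ApproxFree m ((DCoh.tildeD S).obj N)) : DRing.IsPseudoCoherent S m N := by
  obtain ⟨E, α, ⟨⟨a, b, hab⟩, hfl⟩, hfree, hα⟩ := h
  have hq : ∀ i : ℤ, (E.X i).IsQuasicoherent := fun i =>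
    Groth.Agent.Lead.FLF.isQuasicoherent_of_isFinLocFree _ (hfl i)
  let P : CochainComplex (ModuleCat.{u} S) ℤ := (ΓCx S).obj E
  let c : (tCx S).obj P ≅ E := tΓIso S E hq
  let α' : (DCoh.tildeD S).obj (DerivedCategory.Q.obj P) ⟶ (DCoh.tildeD S).obj N :=
    (tildeQIso S P).hom ≫ (DerivedCategory.Q.mapIso c).hom ≫ α
  have hα' : IsApprox m α' := (hα.iso_comp (DerivedCategory.Q.mapIso c)).iso_comp (tildeQIso S P)
  haveI : (DCoh.tildeD S).Full := (tildeD_main S).1
  obtain ⟨β, hβ⟩ := (DCoh.tildeD S).map_surjective α'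
  refine ⟨P, a, b, β, fun i hi => Functor.map_isZero (moduleSpecΓFunctor (R := S)) (hab i hi),
    fun i => ?_, isApprox_of_tildeD S β (hβ ▸ hα')⟩
  obtain ⟨n, ⟨e⟩⟩ := hfree i
  exact finite_free_Γ_of_iso_free S (E.X i) n e

/-- **if `N^~` is represented by a strictly perfect complex, then `N` is perfect** -/
theorem isPerfect_of_iso_strictlyPerfect (N : DerivedCategory (ModuleCat.{u} S))
    (E : CochainComplex (Spec (CommRingCat.of S)).Modules ℤ) (hE : DCoh.IsStrictlyPerfect E)
    (e : (DCoh.tildeD S).obj N ≅ DerivedCategory.Q.obj E) : DRing.IsPerfect S N := by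
  obtain ⟨⟨a, b, hab⟩, hfl⟩ := hE
  have hq : ∀ i : ℤ, (E.X i).IsQuasicoherent := fun i =>
    Groth.Agent.Lead.FLF.isQuasicoherent_of_isFinLocFree _ (hfl i)
  let P : CochainComplex (ModuleCat.{u} S) ℤ := (ΓCx S).obj E
  let c : (tCx S).obj P ≅ E := tΓIso S E hq
  let e' : (DCoh.tildeD S).obj N ≅ (DCoh.tildeD S).obj (DerivedCategory.Q.obj P) :=
    e ≪≫ (DerivedCategory.Q.mapIso c).symm ≪≫ (tildeQIso S P).symm
  haveI : (DCoh.tildeD S).Full := (tildeD_main S).1
  haveI : (DCoh.tildeD S).Faithful := (tildeD_main S).2.1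
  refine ⟨P, a, b, fun i hi => Functor.map_isZero (moduleSpecΓFunctor (R := S)) (hab i hi),
    fun i => finite_projective_Γ_of_isFinLocFree S (E.X i) (hfl i),
    ⟨((Functor.FullyFaithful.ofFullyFaithful (DCoh.tildeD S)).preimageIso e').symm⟩⟩

end Affine2

end Groth.Agent.Lib.Helper5.TildePC
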