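import Mathlib
import Groth.Prelude.Def_DCoh3
import Groth.Prelude.Def_DRing2
import Groth.Agent.Lib.Helper5.TildePC.FromApprox
import Groth.Agent.Lib.Helper5.Perf.PCTri
import Groth.Agent.S2087
import Groth.Agent.S6960

/-!
# `M^~` is `m`-pseudo-coherent / perfect iff `M` is (helper5)
-/

set_option autoImplicit false
universe u
open CategoryTheory CategoryTheory.Limits AlgebraicGeometry

attribute [local instance] HasDerivedCategory.standard

namespace Groth.Agent.Lib.Helper5.TildePC

open Groth.Agent.Lib.Helper5.PCApprox Groth.Agent.Lib.Helper5.PerfTri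
  Groth.Agent.Lib.Helper5.LocNull Groth.Agent.Lib.Helper5.QC Groth.Agent.Lib.Helper5.ExactHom
  Groth.Agent.Lib.Helper5.Shrink

/-- a property of elements holding near every prime holds on a finite standard cover -/
theorem exists_fin_cover (A : Type u) [CommRing A] (P : A → Prop)
    (h : ∀ x : PrimeSpectrum A, ∃ f : A, f ∉ x.asIdeal ∧ P f) :
    ∃ (r : ℕ) (f : Fin r → A), Ideal.span (Set.range f) = ⊤ ∧ ∀ i, P (f i) := by
  classical
  have htop : Ideal.span {f : A | P f} = ⊤ := by
    by_contra hne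
    obtain ⟨M, hM, hle⟩ := Ideal.exists_le_maximal _ hne
    obtain ⟨f, hf, hPf⟩ := h ⟨M, hM.isPrime⟩
    exact hf (hle (Ideal.subset_span hPf))
  obtain ⟨s, hs, hs'⟩ := (Ideal.span_eq_top_iff_finite _).1 htop
  refine ⟨s.card, fun i => ((s.equivFin.symm i : s) : A), ?_, fun i => hs (s.equivFin.symm i).2⟩
  have : Set.range (fun i => ((s.equivFin.symm i : s) : A)) = (s : Set A) := by
    ext a
    constructor
    · rintro ⟨i, rfl⟩
      exact (s.equivFin.symm i).2
    · intro ha
      exact ⟨s.equivFin ⟨a, ha⟩, by simp⟩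
  rw [this]
  exact hs'

/-- restriction along equal morphisms -/
noncomputable def restrictDCongrObjIso {U X : Scheme.{u}} {j j' : U ⟶ X} [IsOpenImmersion j]
    [IsOpenImmersion j'] (h : j = j') (K : DCoh.D X) :
    (DCoh.restrictD j).obj K ≅ (DCoh.restrictD j').obj K :=
  eqToIso (by subst h; rfl)

variable (R : CommRingCat.{u})

/-- the localization map as a morphism of `CommRingCat` -/
noncomputable abbrev awayHom (f : R) : R ⟶ CommRingCat.of (Localization.Away f) :=
  CommRingCat.ofHom (algebraMap R (Localization.Away f))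

theorem range_awayHom (f : R) :
    Set.range (Spec.map (awayHom R f)) = (PrimeSpectrum.basicOpen f : Set (PrimeSpectrum R)) :=
  congrArg (fun W : (Spec R).Opens => (W : Set (Spec R)))
    (Scheme.Hom.opensRange_localizationAway f)

variable [PreservesFiniteLimits (tilde.functor R)]

/-- local step, pseudo-coherent case -/
theorem exists_away_isPseudoCoherent (K : CochainComplex (ModuleCat.{u} R) ℤ) (m : ℤ)
    (h : DCoh.IsPseudoCoherentD m ((DCoh.tildeD R).obj (DerivedCategory.Q.obj K)))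
    (x : PrimeSpectrum R) :
    ∃ f : R, f ∉ x.asIdeal ∧ DRing.IsPseudoCoherent (Localization.Away f) m
      (DRing.toD ((extCx (awayHom R f)).obj K)) := by
  let T := (DCoh.tildeD R).obj (DerivedCategory.Q.obj K)
  obtain ⟨V, hxV, hV⟩ := exists_approx_of_isPC h (show (Spec (CommRingCat.of R) : Scheme.{u}) from x)
  obtain ⟨W, hxW, hW⟩ := exists_approxFree_nhd hV ⟨x, hxV⟩
  have hx' : (show (Spec (CommRingCat.of R) : Scheme.{u}) from x) ∈ V.ι ''ᵁ W :=
    ⟨⟨x, hxV⟩, hxW, rfl⟩
  obtain ⟨_, ⟨f, rfl⟩, hxf, hfW⟩ :=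
    PrimeSpectrum.isTopologicalBasis_basic_opens.exists_subset_of_mem_open hx' (V.ι ''ᵁ W).2
  refine ⟨f, hxf, ?_⟩
  haveI : PreservesFiniteLimits (tilde.functor (CommRingCat.of (Localization.Away f))) :=
    Groth.Agent.Lib.Helper5.QC.preservesFiniteLimits_tilde
  have hrange : Set.range (Spec.map (awayHom R f)) ⊆ Set.range (W.ι ≫ V.ι) := by
    rw [range_awayHom]
    refine hfW.trans ?_
    rintro _ ⟨w, hw, rfl⟩
    exact ⟨⟨w, hw⟩, rfl⟩
  let c : Spec (CommRingCat.of (Localization.Away f)) ⟶ ↑W :=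
    IsOpenImmersion.lift (W.ι ≫ V.ι) (Spec.map (awayHom R f)) hrange
  have hc : c ≫ W.ι ≫ V.ι = Spec.map (awayHom R f) := IsOpenImmersion.lift_fac _ _ _
  haveI : IsOpenImmersion (c ≫ W.ι ≫ V.ι) := by rw [hc]; infer_instance
  haveI : IsOpenImmersion c := IsOpenImmersion.of_comp c (W.ι ≫ V.ι)
  have h2 := hW.restrict c
  have hc' : (c ≫ W.ι) ≫ V.ι = Spec.map (awayHom R f) := by rw [Category.assoc, hc]
  have h3 : ApproxFree m ((DCoh.tildeD (CommRingCat.of (Localization.Away f))).obj
      (DerivedCategory.Q.obj ((extCx (awayHom R f)).obj K))) :=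
    h2.of_iso ((restrictDCompObjIso c W.ι _).symm ≪≫ (restrictDCompObjIso (c ≫ W.ι) V.ι T).symm ≪≫
      restrictDCongrObjIso hc' T ≪≫ resTildeDIso (awayHom R f) K)
  exact isPseudoCoherent_of_approxFree (CommRingCat.of (Localization.Away f)) _ m h3

/-- local step, perfect case -/
theorem exists_away_isPerfect (K : CochainComplex (ModuleCat.{u} R) ℤ)
    (h : DCoh.IsPerfect ((DCoh.tildeD R).obj (DerivedCategory.Q.obj K)))
    (x : PrimeSpectrum R) :
    ∃ f : R, f ∉ x.asIdeal ∧ DRing.IsPerfect (Localization.Away f)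
      (DRing.toD ((extCx (awayHom R f)).obj K)) := by
  let T := (DCoh.tildeD R).obj (DerivedCategory.Q.obj K)
  obtain ⟨V, hxV, hV⟩ := exists_LPD_of_isPerfect h (show (Spec (CommRingCat.of R) : Scheme.{u}) from x)
  obtain ⟨_, ⟨f, rfl⟩, hxf, hfV⟩ :=
    PrimeSpectrum.isTopologicalBasis_basic_opens.exists_subset_of_mem_open hxV V.2
  refine ⟨f, hxf, ?_⟩
  haveI : PreservesFiniteLimits (tilde.functor (CommRingCat.of (Localization.Away f))) :=
    Groth.Agent.Lib.Helper5.QC.preservesFiniteLimits_tilde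
  have hrange : Set.range (Spec.map (awayHom R f)) ⊆ Set.range V.ι := by
    rw [range_awayHom, Scheme.Opens.range_ι]
    exact hfV
  let c : Spec (CommRingCat.of (Localization.Away f)) ⟶ ↑V :=
    IsOpenImmersion.lift V.ι (Spec.map (awayHom R f)) hrange
  have hc : c ≫ V.ι = Spec.map (awayHom R f) := IsOpenImmersion.lift_fac _ _ _
  haveI : IsOpenImmersion (c ≫ V.ι) := by rw [hc]; infer_instance
  haveI : IsOpenImmersion c := IsOpenImmersion.of_comp c V.ι
  obtain ⟨E, hE, ⟨e⟩⟩ := LPD_congr hc (LPD_comp c V.ι hV)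
  exact isPerfect_of_iso_strictlyPerfect (CommRingCat.of (Localization.Away f)) _ E hE
    ((resTildeDIso (awayHom R f) K).symm ≪≫ e)

/-- `DRing.IsPseudoCoherent` is invariant under isomorphism -/
theorem isPseudoCoherent_of_iso {A : Type u} [CommRing A] {m : ℤ} {M M' : Dual.D A} (e : M ≅ M')
    (h : DRing.IsPseudoCoherent A m M) : DRing.IsPseudoCoherent A m M' := by
  obtain ⟨E, a, b, α, hab, hE, h1, h2⟩ := h
  refine ⟨E, a, b, α ≫ e.hom, hab, hE, fun i hi => ?_, ?_⟩
  · haveI := h1 i hi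
    rw [Functor.map_comp]
    infer_instance
  · haveI := h2
    rw [Functor.map_comp]
    infer_instance

/-- `DRing.IsPerfect` is invariant under isomorphism -/
theorem isPerfect_of_iso' {A : Type u} [CommRing A] {M M' : Dual.D A} (e : M ≅ M')
    (h : DRing.IsPerfect A M) : DRing.IsPerfect A M' := by
  obtain ⟨E, a, b, hab, hE, ⟨i⟩⟩ := h
  exact ⟨E, a, b, hab, hE, ⟨i ≪≫ e⟩⟩

/-- **`M^~` is `m`-pseudo-coherent iff `M` is** -/
theorem isPseudoCoherentD_tildeD_iff (M : DerivedCategory (ModuleCat.{u} R)) (m : ℤ) :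
    DCoh.IsPseudoCoherentD m ((DCoh.tildeD R).obj M) ↔ DRing.IsPseudoCoherent R m M := by
  refine ⟨fun h => ?_, isPseudoCoherentD_tildeD R M m⟩
  let K : CochainComplex (ModuleCat.{u} R) ℤ := DerivedCategory.Q.objPreimage M
  let eK : DerivedCategory.Q.obj K ≅ M := DerivedCategory.Q.objObjPreimageIso M
  have h' : DCoh.IsPseudoCoherentD m ((DCoh.tildeD R).obj (DerivedCategory.Q.obj K)) :=
    Groth.Agent.Lib.Helper5.PCTri.isPC_of_iso ((DCoh.tildeD R).mapIso eK.symm) h
  obtain ⟨r, f, hf, hP⟩ := exists_fin_cover R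
    (fun f => DRing.IsPseudoCoherent (Localization.Away f) m
      (DRing.toD ((extCx (awayHom R f)).obj K))) (exists_away_isPseudoCoherent R K m h')
  exact isPseudoCoherent_of_iso eK (Groth.Agent.S2087.result f hf K m hP)

/-- **`M^~` is perfect iff `M` is** -/
theorem isPerfect_tildeD_iff (M : DerivedCategory (ModuleCat.{u} R)) :
    DCoh.IsPerfect ((DCoh.tildeD R).obj M) ↔ DRing.IsPerfect R M := by
  refine ⟨fun h => ?_, isPerfect_tildeD R M⟩
  let K : CochainComplex (ModuleCat.{u} R) ℤ := DerivedCategory.Q.objPreimage M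
  let eK : DerivedCategory.Q.obj K ≅ M := DerivedCategory.Q.objObjPreimageIso M
  have h' : DCoh.IsPerfect ((DCoh.tildeD R).obj (DerivedCategory.Q.obj K)) :=
    isPerfect_of_iso ((DCoh.tildeD R).mapIso eK.symm) h
  obtain ⟨r, f, hf, hP⟩ := exists_fin_cover R
    (fun f => DRing.IsPerfect (Localization.Away f)
      (DRing.toD ((extCx (awayHom R f)).obj K))) (exists_away_isPerfect R K h')
  exact isPerfect_of_iso' eK (Groth.Agent.S6960.result f hf K hP)

end Groth.Agent.Lib.Helper5.TildePC
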